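import Mathlib.NumberTheory.Padics.PadicVal.Basic
import Mathlib.Data.Nat.Digits.Lemmas
import Mathlib.Data.Nat.Choose.Multinomial
import Mathlib.Algebra.BigOperators.Ring.Finset

/-!
Digit sums and residues modulo `p ^ f - 1`.
-/

set_option autoImplicit false

namespace Groth.L28.AxKatz

open Finset

/-- smallest positive representative modulo `G`, and zero at zero -/
def rep (G n : ℕ) : ℕ := if n = 0 then 0 else (n - 1) % G + 1

/-- sum of the digits -/
def dsum (p n : ℕ) : ℕ := (p.digits n).sum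

variable {G : ℕ}

lemma modEq_sum {ι : Type*} (s : Finset ι) {a b : ι → ℕ} (h : ∀ i ∈ s, a i ≡ b i [MOD G]) :
    ∑ i ∈ s, a i ≡ ∑ i ∈ s, b i [MOD G] := by
  classical
  induction s using Finset.induction with
  | empty => rfl
  | insert i t hi ih =>
    rw [Finset.sum_insert hi, Finset.sum_insert hi]
    exact (h i (Finset.mem_insert_self _ _)).add (ih fun j hj => h j (Finset.mem_insert_of_mem hj))

lemma rep_zero : rep G 0 = 0 := rfl

lemma rep_modEq (n : ℕ) : rep G n ≡ n [MOD G] := by
  rcases Nat.eq_zero_or_pos n with rfl | hn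
  · rfl
  · rw [rep, if_neg hn.ne']
    conv_rhs => rw [← Nat.sub_add_cancel hn]
    exact (Nat.mod_modEq _ _).add_right 1

lemma rep_le_of_modEq {n x : ℕ} (hx : 0 < x) (h : x ≡ n [MOD G]) : rep G n ≤ x := by
  rcases Nat.eq_zero_or_pos n with rfl | hn
  · simp [rep_zero]
  · rw [rep, if_neg hn.ne']
    have h' : x - 1 ≡ n - 1 [MOD G] := Nat.ModEq.add_right_cancel' 1 (by
      rwa [Nat.sub_add_cancel hx, Nat.sub_add_cancel hn])
    have h'' : (n - 1) % G ≤ x - 1 := by rw [← h']; exact Nat.mod_le _ _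
    omega

lemma rep_pos {n : ℕ} (hn : n ≠ 0) : 0 < rep G n := by rw [rep, if_neg hn]; omega

lemma rep_eq_zero {n : ℕ} : rep G n = 0 ↔ n = 0 :=
  ⟨fun h => by by_contra hn; exact (rep_pos (G := G) hn).ne' h, fun h => by rw [h, rep_zero]⟩

lemma rep_add_le (a b : ℕ) : rep G (a + b) ≤ rep G a + rep G b := by
  rcases Nat.eq_zero_or_pos a with rfl | ha
  · simp [rep_zero]
  · exact rep_le_of_modEq (Nat.add_pos_left (rep_pos ha.ne') _) ((rep_modEq a).add (rep_modEq b))

lemma rep_mul_le (a b : ℕ) : rep G (a * b) ≤ a * rep G b := by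
  induction a with
  | zero => simp [rep_zero]
  | succ a ih => rw [Nat.succ_mul, Nat.succ_mul]; exact (rep_add_le _ _).trans (by omega)

lemma rep_eq_of_modEq {a b : ℕ} (h : a ≡ b [MOD G]) (h0 : a = 0 ↔ b = 0) : rep G a = rep G b := by
  rcases Nat.eq_zero_or_pos a with rfl | ha
  · rw [h0.1 rfl]
  · have hb : b ≠ 0 := fun hb => ha.ne' (h0.2 hb)
    exact le_antisymm (rep_le_of_modEq (rep_pos hb) ((rep_modEq b).trans h.symm))
      (rep_le_of_modEq (rep_pos ha.ne') ((rep_modEq a).trans h))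

variable {p : ℕ}

lemma sum_rep_le (hp : 1 < p) {f : ℕ} (hf : 0 < f) : ∀ n : ℕ,
    (p - 1) * ∑ l ∈ range f, rep (p ^ f - 1) (p ^ l * n) ≤ (p ^ f - 1) * dsum p n := by
  intro n
  induction n using Nat.strong_induction_on with
  | _ n ih =>
    rcases Nat.eq_zero_or_pos n with rfl | hn
    · simp [rep_zero]
    · have hd : dsum p n = n % p + dsum p (n / p) := by
        rw [dsum, Nat.digits_def' hp hn, List.sum_cons, dsum]
      have hq : 1 ≤ p ^ f := Nat.one_le_pow _ _ (by omega)
      have hsplit : ∀ l ∈ range f, rep (p ^ f - 1) (p ^ l * n) ≤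
          n % p * p ^ l + rep (p ^ f - 1) (p ^ (l + 1) * (n / p)) := fun l hl => by
        have e : p ^ l * n = n % p * p ^ l + p ^ (l + 1) * (n / p) := by
          conv_lhs => rw [← Nat.mod_add_div n p]
          ring
        rw [e]
        refine (rep_add_le _ _).trans (Nat.add_le_add_right ((rep_mul_le _ _).trans ?_) _)
        exact Nat.mul_le_mul_left _ (rep_le_of_modEq (Nat.pow_pos (by omega)) rfl)
      have hshift : ∑ l ∈ range f, rep (p ^ f - 1) (p ^ (l + 1) * (n / p)) =
          ∑ l ∈ range f, rep (p ^ f - 1) (p ^ l * (n / p)) := by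
        have h1 := Finset.sum_range_succ' (fun l => rep (p ^ f - 1) (p ^ l * (n / p))) f
        have h2 := Finset.sum_range_succ (fun l => rep (p ^ f - 1) (p ^ l * (n / p))) f
        have h3 : rep (p ^ f - 1) (p ^ f * (n / p)) = rep (p ^ f - 1) (p ^ 0 * (n / p)) := by
          refine rep_eq_of_modEq ?_ ?_
          · refine Nat.ModEq.mul_right _ ?_
            rw [pow_zero]
            exact ((Nat.modEq_iff_dvd' hq).2 dvd_rfl).symm
          · simp [(show p ≠ 0 by omega)]
        omega
      have hgeom : (p - 1) * ∑ l ∈ range f, p ^ l = p ^ f - 1 := by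
        rw [Nat.geomSum_eq hp, Nat.mul_div_cancel']
        exact Nat.sub_one_dvd_pow_sub_one p f
      calc (p - 1) * ∑ l ∈ range f, rep (p ^ f - 1) (p ^ l * n)
          ≤ (p - 1) * ∑ l ∈ range f, (n % p * p ^ l + rep (p ^ f - 1) (p ^ (l + 1) * (n / p))) :=
            Nat.mul_le_mul_left _ (Finset.sum_le_sum hsplit)
        _ = (p ^ f - 1) * (n % p) + (p - 1) * ∑ l ∈ range f, rep (p ^ f - 1) (p ^ l * (n / p)) := by
            rw [Finset.sum_add_distrib, hshift, ← Finset.mul_sum, mul_add, mul_left_comm, hgeom,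
              mul_comm (n % p)]
        _ ≤ (p ^ f - 1) * (n % p) + (p ^ f - 1) * dsum p (n / p) :=
            Nat.add_le_add_left (ih _ (Nat.div_lt_self hn hp)) _
        _ = _ := by rw [hd, mul_add]

lemma dsum_pow_sub_one (hp : 1 < p) : ∀ f, dsum p (p ^ f - 1) = f * (p - 1) := by
  intro f
  induction f with
  | zero => simp [dsum]
  | succ f ih =>
    have h1 : 1 ≤ p ^ f := Nat.one_le_pow _ _ (by omega)
    have e : p ^ (f + 1) - 1 = (p - 1) + p * (p ^ f - 1) := by
      rw [pow_succ', Nat.mul_sub_one]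
      have : p ≤ p * p ^ f := Nat.le_mul_of_pos_right p h1
      omega
    rw [e, dsum, Nat.digits_def' hp (by omega), List.sum_cons, Nat.add_mul_mod_self_left,
      Nat.mod_eq_of_lt (by omega), Nat.add_mul_div_left _ _ (by omega : 0 < p),
      Nat.div_eq_of_lt (by omega : p - 1 < p), Nat.zero_add, ← dsum, ih]
    ring

lemma dsum_pow_mul (hp : 1 < p) (m : ℕ) {n : ℕ} (hn : 0 < n) : dsum p (p ^ m * n) = dsum p n := by
  simp [dsum, Nat.digits_base_pow_mul hp hn]

lemma dsum_le (p n : ℕ) : dsum p n ≤ n := Nat.digit_sum_le p n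

lemma multinomial_val [hp : Fact p.Prime] {α : Type*} (s : Finset α) (k : α → ℕ) :
    (p - 1) * padicValNat p (Nat.multinomial s k) + dsum p (∑ i ∈ s, k i) = ∑ i ∈ s, dsum p (k i) := by
  classical
  have hprod : ∀ t : Finset α, (p - 1) * padicValNat p (∏ i ∈ t, (k i).factorial) +
      ∑ i ∈ t, dsum p (k i) = ∑ i ∈ t, k i := by
    intro t
    induction t using Finset.induction with
    | empty => simp
    | insert i t hi ih =>
      rw [Finset.prod_insert hi, padicValNat.mul (Nat.factorial_ne_zero _)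
        (Finset.prod_ne_zero_iff.2 fun j _ => Nat.factorial_ne_zero _), mul_add,
        Finset.sum_insert hi, Finset.sum_insert hi, sub_one_mul_padicValNat_factorial]
      have := dsum_le p (k i)
      simp only [dsum] at *
      omega
  have h1 := congrArg (fun x => (p - 1) * padicValNat p x) (Nat.multinomial_spec s k)
  rw [padicValNat.mul (Finset.prod_ne_zero_iff.2 fun j _ => Nat.factorial_ne_zero _)
    (Nat.multinomial_pos _ _).ne', mul_add, sub_one_mul_padicValNat_factorial] at h1
  have := hprod s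
  have := dsum_le p (∑ i ∈ s, k i)
  simp only [dsum] at *
  omega

/-- the combinatorial bound -/
theorem bound [hp : Fact p.Prime] {f N d j m : ℕ} (hf : 0 < f) (hd : 0 < d) (hj : j * d < N)
    {ι : Type*} (T : Finset ι) (α : ι → Fin N → ℕ) (hα : ∀ i ∈ T, ∑ v, α i v = d)
    (k : ι → ℕ) (hk : ∑ i ∈ T, k i = (p ^ f - 1) * p ^ m)
    (hdiv : ∀ v, (p ^ f - 1) ∣ ∑ i ∈ T, α i v * k i) :
    f * j ≤ f * (Finset.univ.filter fun v => ∑ i ∈ T, α i v * k i = 0).card +
      padicValNat p (Nat.multinomial T k) := by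
  have hp1 := hp.out.one_lt
  set G := p ^ f - 1 with hG
  have hGpos : 0 < G := by
    have : p ≤ p ^ f := Nat.le_self_pow hf.ne' p
    omega
  set a : Fin N → ℕ := fun v => ∑ i ∈ T, α i v * k i with ha
  set z := (Finset.univ.filter fun v => a v = 0).card with hz
  set s := (Finset.univ.filter fun v => ¬ a v = 0).card with hs
  have hzs : z + s = N := by
    rw [hz, hs, Finset.card_filter_add_card_filter_not, Finset.card_univ, Fintype.card_fin]
  -- the shifts
  have hc : ∀ l, ∃ c, ∑ i ∈ T, rep G (p ^ l * k i) = c * G ∧ s ≤ d * c ∧ 1 ≤ c := by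
    intro l
    have h0 : ∑ i ∈ T, rep G (p ^ l * k i) ≡ p ^ l * ∑ i ∈ T, k i [MOD G] := by
      rw [Finset.mul_sum]; exact modEq_sum _ fun i _ => rep_modEq _
    obtain ⟨c, hc⟩ : G ∣ ∑ i ∈ T, rep G (p ^ l * k i) :=
      (Nat.ModEq.dvd_iff h0 dvd_rfl).2 (dvd_mul_of_dvd_right (hk ▸ dvd_mul_right _ _) _)
    refine ⟨c, hc.trans (mul_comm _ _), ?_, ?_⟩
    · have hpos : ∀ v, ¬ a v = 0 → G ≤ ∑ i ∈ T, α i v * rep G (p ^ l * k i) := fun v hv => by
        refine Nat.le_of_dvd ?_ ?_
        · obtain ⟨i, hi, hne⟩ := Finset.exists_ne_zero_of_sum_ne_zero hv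
          refine Finset.sum_pos' (fun _ _ => Nat.zero_le _) ⟨i, hi, ?_⟩
          rw [Nat.mul_ne_zero_iff] at hne
          exact Nat.mul_pos (Nat.pos_of_ne_zero hne.1)
            (rep_pos (Nat.mul_ne_zero (pow_ne_zero _ (by omega)) hne.2))
        · have h1 : ∑ i ∈ T, α i v * rep G (p ^ l * k i) ≡ p ^ l * a v [MOD G] := by
            simp only [ha, Finset.mul_sum, mul_left_comm (p ^ l)]
            exact modEq_sum _ fun i _ => (rep_modEq _).mul_left _
          exact (Nat.ModEq.dvd_iff h1 dvd_rfl).2 (dvd_mul_of_dvd_right (hdiv v) _)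
      have h2 : ∑ v, ∑ i ∈ T, α i v * rep G (p ^ l * k i) = d * (c * G) := by
        rw [Finset.sum_comm, mul_comm c, ← hc, Finset.mul_sum]
        exact Finset.sum_congr rfl fun i hi => by rw [← Finset.sum_mul, hα i hi]
      have h3 : s * G ≤ d * (c * G) := by
        rw [← h2, hs, ← smul_eq_mul, ← Finset.sum_const]
        refine (Finset.sum_le_sum fun v hv => hpos v (Finset.mem_filter.1 hv).2).trans
          (Finset.sum_le_sum_of_subset (Finset.filter_subset _ _))
      rw [← mul_assoc] at h3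
      exact Nat.le_of_mul_le_mul_right h3 hGpos
    · rcases Nat.eq_zero_or_pos c with rfl | h
      · rw [mul_zero] at hc
        have hzero : ∀ i ∈ T, k i = 0 := fun i hi => by
          have := (Finset.sum_eq_zero_iff.1 hc) i hi
          rw [rep_eq_zero, Nat.mul_eq_zero] at this
          exact this.resolve_left (pow_ne_zero _ (by omega))
        rw [Finset.sum_eq_zero hzero] at hk
        have := Nat.mul_pos hGpos (Nat.pow_pos (n := m) (show 0 < p by omega))
        omega
      · exact h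
  choose c hc1 hc2 hc3 using hc
  obtain ⟨l₀, hl₀, hmin⟩ := (range f).exists_min_image c ⟨0, mem_range.2 hf⟩
  set c₀ := c l₀ with hc₀
  -- the digit sums
  have hsum : f * c₀ * (p - 1) ≤ ∑ i ∈ T, dsum p (k i) := by
    refine Nat.le_of_mul_le_mul_left ?_ hGpos
    calc G * (f * c₀ * (p - 1)) = (p - 1) * ∑ _l ∈ range f, c₀ * G := by
          rw [Finset.sum_const, card_range, smul_eq_mul]; ring
      _ ≤ (p - 1) * ∑ l ∈ range f, ∑ i ∈ T, rep G (p ^ l * k i) :=
          Nat.mul_le_mul_left _ (Finset.sum_le_sum fun l hl => by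
            rw [hc1 l]; exact Nat.mul_le_mul_right _ (hmin l hl))
      _ = ∑ i ∈ T, (p - 1) * ∑ l ∈ range f, rep G (p ^ l * k i) := by
          rw [Finset.sum_comm, Finset.mul_sum]
      _ ≤ ∑ i ∈ T, G * dsum p (k i) := Finset.sum_le_sum fun i _ => sum_rep_le hp1 hf (k i)
      _ = _ := by rw [Finset.mul_sum]
  have hM : dsum p (∑ i ∈ T, k i) = f * (p - 1) := by
    rw [hk, mul_comm, dsum_pow_mul hp1 m hGpos, dsum_pow_sub_one hp1]
  have hv := multinomial_val (p := p) T k
  rw [hM] at hv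
  have hval : f * c₀ ≤ padicValNat p (Nat.multinomial T k) + f := by
    refine Nat.le_of_mul_le_mul_left (c := p - 1) ?_ (by omega)
    calc (p - 1) * (f * c₀) = f * c₀ * (p - 1) := mul_comm _ _
      _ ≤ ∑ i ∈ T, dsum p (k i) := hsum
      _ = _ := by rw [← hv]; ring
  have hkey : j + 1 ≤ z + c₀ := by
    by_contra hlt
    have h1 : s ≤ d * c₀ := hc2 l₀
    have h2 : 1 ≤ c₀ := hc3 l₀
    have : d * c₀ + z ≤ d * j := by
      have h3 : d * (c₀ + z) ≤ d * j := Nat.mul_le_mul_left _ (by omega)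
      rw [mul_add] at h3
      have : z ≤ d * z := Nat.le_mul_of_pos_left z hd
      omega
    rw [mul_comm j] at hj
    omega
  have h4 : f * (j + 1) ≤ f * (z + c₀) := Nat.mul_le_mul_left _ hkey
  rw [mul_add, mul_add, mul_one] at h4
  show f * j ≤ f * z + _
  omega

end Groth.L28.AxKatz
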