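import Groth.Agent.L28.AxKatz.Digits
import Mathlib.RingTheory.WittVector.Complete
import Mathlib.RingTheory.WittVector.Teichmuller
import Mathlib.RingTheory.WittVector.Domain
import Mathlib.NumberTheory.Basic
import Mathlib.FieldTheory.Finite.Basic
import Mathlib.RingTheory.MvPolynomial.Homogeneous

/-!
The divisibility theorem of Ax for one form.
-/

set_option autoImplicit false
universe u

namespace Groth.L28.AxKatz

open WittVector Finset

variable {k : Type u} [Field k] [Fintype k] [DecidableEq k] (p : ℕ) [hp : Fact p.Prime] [hc : CharP k p]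
include hp hc

local notation "W" => WittVector p k
local notation "τ" => teichmuller p (R := k)

lemma dvd_of_constantCoeff {x : W} (h : constantCoeff x = 0) : (p : W) ∣ x :=
  Ideal.mem_span_singleton.1 ((mem_span_p_iff_coeff_zero_eq_zero x).2 h)

lemma cc_teich (a : k) : constantCoeff (τ a) = a := teichmuller_coeff_zero p a

lemma natCast_dvd {e n : ℕ} (h : (p : W) ^ e ∣ (n : W)) : p ^ e ∣ n := by
  induction e generalizing n with
  | zero => simp
  | succ e ih =>
    have h0 : (p : W) ∣ (n : W) := (dvd_pow_self _ (Nat.succ_ne_zero e)).trans h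
    obtain ⟨n', rfl⟩ : p ∣ n := by
      rw [← CharP.cast_eq_zero_iff k p]
      obtain ⟨y, hy⟩ := h0
      have := congrArg (constantCoeff : W →+* k) hy
      rw [map_natCast, map_mul, map_natCast, CharP.cast_eq_zero k p, zero_mul] at this
      exact this
    rw [pow_succ'] at h ⊢
    rw [Nat.cast_mul] at h
    exact Nat.mul_dvd_mul_left p (ih ((mul_dvd_mul_iff_left (WittVector.p_nonzero p k)).1 h))

lemma sum_teich_pow {f : ℕ} (hq : Fintype.card k = p ^ f) (a : ℕ) :
    (¬ (p ^ f - 1) ∣ a → ∑ t : k, τ t ^ a = 0) ∧ (a = 0 → ∑ t : k, τ t ^ a = (p : W) ^ f) := by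
  constructor
  · intro h
    rw [← hq, ← FiniteField.forall_pow_eq_one_iff (K := k)] at h
    push Not at h
    obtain ⟨g, hg⟩ := h
    have hne : τ ((g : k) ^ a) ≠ 1 := fun h1 => hg (Units.ext (by
      have := congrArg (fun x : W => x.coeff 0) h1
      rw [teichmuller_coeff_zero, WittVector.one_coeff_zero] at this
      simpa using this))
    have hshift : τ ((g : k) ^ a) * ∑ t : k, τ t ^ a = ∑ t : k, τ t ^ a := by
      rw [Finset.mul_sum]
      refine Fintype.sum_equiv (Equiv.mulLeft₀ (g : k) g.ne_zero) _ _ fun t => ?_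
      simp [mul_pow]
    have h0 : (τ ((g : k) ^ a) - 1) * ∑ t : k, τ t ^ a = 0 := by rw [sub_mul, one_mul, hshift, sub_self]
    exact (mul_eq_zero.1 h0).resolve_left (sub_ne_zero.2 hne)
  · rintro rfl
    simp [hq]

theorem ax {N d j : ℕ} (F : MvPolynomial (Fin N) k) (hF : F.IsHomogeneous d) (hd : 0 < d) (hj : j * d < N) :
    Fintype.card k ^ j ∣ Fintype.card {x : Fin N → k // MvPolynomial.eval x F = 0} := by
  classical
  obtain ⟨f, -, hq⟩ := FiniteField.card k p
  set G := p ^ (f : ℕ) - 1 with hG
  have hGpos : 0 < G := by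
    have : p ≤ p ^ (f : ℕ) := Nat.le_self_pow f.pos.ne' p
    have := hp.out.one_lt
    omega
  set m := (f : ℕ) * j with hm
  set M := G * p ^ m with hM
  have hMm : m + 1 ≤ M := by
    have h1 : m + 1 ≤ p ^ m := Nat.lt_pow_self hp.out.one_lt
    have : p ^ m ≤ G * p ^ m := Nat.le_mul_of_pos_left _ hGpos
    omega
  rw [hq, ← pow_mul, ← hm]
  apply natCast_dvd (k := k) p
  let P : (Fin N → k) → W := fun x => ∑ i ∈ F.support, τ (F.coeff i) * ∏ v, τ (x v) ^ (i v)
  have hP : ∀ x, constantCoeff (P x) = MvPolynomial.eval x F := fun x => by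
    simp only [P, MvPolynomial.eval_eq', map_sum, map_mul, map_prod, map_pow, cc_teich]
  have hind : ∀ x, (p : W) ^ m ∣ (if MvPolynomial.eval x F = 0 then (1 : W) else 0) - (1 - P x ^ M) := by
    intro x
    split
    · rename_i h
      rw [sub_sub_cancel]
      exact (pow_dvd_pow _ (by omega)).trans (pow_dvd_pow_of_dvd (dvd_of_constantCoeff p ((hP x).trans h)) M)
    · rename_i h
      rw [zero_sub, neg_sub, hM]
      have h1 : (p : W) ∣ P x ^ G - 1 := dvd_of_constantCoeff p (by
        rw [map_sub, map_pow, map_one, hP, hG, ← hq, FiniteField.pow_card_sub_one_eq_one _ h, sub_self])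
      have h2 := dvd_sub_pow_of_dvd_sub h1 m
      rw [one_pow, ← pow_mul] at h2
      exact (pow_dvd_pow _ (Nat.le_succ m)).trans h2
  have hsum : (p : W) ^ m ∣ ∑ x : Fin N → k, (1 - P x ^ M) := by
    rw [Finset.sum_sub_distrib]
    refine dvd_sub ?_ ?_
    · simp only [Finset.sum_const, Finset.card_univ, Fintype.card_fun, Fintype.card_fin, hq, nsmul_eq_mul,
        mul_one]
      push_cast
      rw [← pow_mul]
      have : j ≤ j * d := Nat.le_mul_of_pos_right j hd
      exact pow_dvd_pow _ (Nat.mul_le_mul_left _ (by omega))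
    · simp only [P, Finset.sum_pow_eq_sum_piAntidiag, mul_pow, ← Finset.prod_pow, ← pow_mul]
      rw [Finset.sum_comm]
      refine Finset.dvd_sum fun e he => ?_
      rw [← Finset.mul_sum]
      simp only [Finset.prod_mul_distrib]
      rw [← Finset.mul_sum]
      have hx : ∑ x : Fin N → k, ∏ i ∈ F.support, ∏ v, τ (x v) ^ (i v * e i) =
          ∏ v : Fin N, ∑ t : k, τ t ^ (∑ i ∈ F.support, i v * e i) := by
        rw [Fintype.prod_sum fun v t => τ t ^ (∑ i ∈ F.support, i v * e i)]
        refine Finset.sum_congr rfl fun x _ => ?_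
        rw [Finset.prod_comm]
        simp only [Finset.prod_pow_eq_pow_sum]
      rw [hx]
      by_cases hdiv : ∀ v : Fin N, G ∣ ∑ i ∈ F.support, i v * e i
      · have hb := bound (p := p) f.pos hd hj F.support (fun i v => i v) (fun i hi => ?_) e
          (Finset.mem_piAntidiag.1 he).1 hdiv
        · refine (pow_dvd_pow _ hb).trans ?_
          rw [pow_add, mul_comm ((p : W) ^ ((f : ℕ) * _))]
          refine mul_dvd_mul ?_ (dvd_mul_of_dvd_right ?_ _)
          · exact_mod_cast map_dvd (Nat.castRingHom W) pow_padicValNat_dvd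
          · rw [← Finset.prod_filter_mul_prod_filter_not Finset.univ
              (fun v : Fin N => ∑ i ∈ F.support, i v * e i = 0)]
            refine dvd_mul_of_dvd_left (dvd_of_eq ?_) _
            rw [pow_mul, ← Finset.prod_const]
            exact Finset.prod_congr rfl fun v hv => ((sum_teich_pow p hq _).2 (Finset.mem_filter.1 hv).2).symm
        · have := hF (MvPolynomial.mem_support_iff.1 hi)
          change Finsupp.weight (fun _ => 1) i = d at this
          rw [← Finsupp.degree_eq_weight_one] at this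
          rw [← this, Finsupp.degree_eq_sum]
      · push Not at hdiv
        obtain ⟨v, hv⟩ := hdiv
        rw [Finset.prod_eq_zero (Finset.mem_univ v) ((sum_teich_pow p hq _).1 hv), mul_zero, mul_zero]
        exact dvd_zero _
  have h3 : ((Fintype.card {x : Fin N → k // MvPolynomial.eval x F = 0} : ℕ) : W) =
      ∑ x : Fin N → k, (if MvPolynomial.eval x F = 0 then (1 : W) else 0) := by
    rw [Fintype.card_subtype, Finset.sum_boole]
  have h4 := dvd_add (Finset.dvd_sum (fun x (_ : x ∈ Finset.univ) => hind x)) hsum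
  rw [← Finset.sum_add_distrib] at h4
  rw [h3]
  simpa using h4

end Groth.L28.AxKatz
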